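import Mathlib
import Cfsg.Agent.Lib.Schur.Cover

/-!
The central extension of `ZMod m × ZMod n` (for `n ∣ m`) with commutator kernel `ZMod n`, and the
multipliers of two-generator abelian groups.
-/

set_option autoImplicit false

universe u

namespace Cfsg.Agent.Lib.SchurExtra

open Subgroup
open scoped commutatorElement

/-- Triples `(a, b, c)` with the Heisenberg multiplication. -/
@[ext] structure Heis (m n : ℕ) (h : n ∣ m) where
  a : ZMod m
  b : ZMod n
  c : ZMod n

namespace Heis

variable {m n : ℕ} {h : n ∣ m}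

instance instGroupHeis : Group (Heis m n h) where
  mul x y := ⟨x.a + y.a, x.b + y.b, x.c + y.c + ZMod.castHom h (ZMod n) x.a * y.b⟩
  one := ⟨0, 0, 0⟩
  inv x := ⟨-x.a, -x.b, -x.c + ZMod.castHom h (ZMod n) x.a * x.b⟩
  mul_assoc x y z := by
    apply Heis.ext
    · exact add_assoc _ _ _
    · exact add_assoc _ _ _
    · show x.c + y.c + ZMod.castHom h (ZMod n) x.a * y.b + z.c +
          ZMod.castHom h (ZMod n) (x.a + y.a) * z.b =
        x.c + (y.c + z.c + ZMod.castHom h (ZMod n) y.a * z.b) +
          ZMod.castHom h (ZMod n) x.a * (y.b + z.b)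
      rw [map_add]; ring
  one_mul x := by
    apply Heis.ext
    · exact zero_add _
    · exact zero_add _
    · show 0 + x.c + ZMod.castHom h (ZMod n) 0 * x.b = x.c
      rw [map_zero]; ring
  mul_one x := by
    apply Heis.ext
    · exact add_zero _
    · exact add_zero _
    · show x.c + 0 + ZMod.castHom h (ZMod n) x.a * 0 = x.c
      ring
  inv_mul_cancel x := by
    apply Heis.ext
    · exact neg_add_cancel _
    · exact neg_add_cancel _
    · show -x.c + ZMod.castHom h (ZMod n) x.a * x.b + x.c +
          ZMod.castHom h (ZMod n) (-x.a) * x.b = 0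
      rw [map_neg]; ring

theorem mul_def (x y : Heis m n h) :
    x * y = ⟨x.a + y.a, x.b + y.b, x.c + y.c + ZMod.castHom h (ZMod n) x.a * y.b⟩ := rfl

theorem inv_def (x : Heis m n h) :
    x⁻¹ = ⟨-x.a, -x.b, -x.c + ZMod.castHom h (ZMod n) x.a * x.b⟩ := rfl

theorem one_def : (1 : Heis m n h) = ⟨0, 0, 0⟩ := rfl

/-- The projection to `ZMod m × ZMod n`. -/
def proj (m n : ℕ) (h : n ∣ m) : Heis m n h →* Multiplicative (ZMod m × ZMod n) where
  toFun x := Multiplicative.ofAdd (x.a, x.b)
  map_one' := rfl
  map_mul' _ _ := rfl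

theorem proj_surjective : Function.Surjective (proj m n h) := fun q =>
  ⟨⟨q.toAdd.1, q.toAdd.2, 0⟩, rfl⟩

theorem mem_ker_proj (x : Heis m n h) : x ∈ (proj m n h).ker ↔ x.a = 0 ∧ x.b = 0 := by
  rw [MonoidHom.mem_ker]
  exact Prod.mk_inj

theorem ker_proj_le_center : (proj m n h).ker ≤ center (Heis m n h) := by
  intro x hx
  obtain ⟨ha, hb⟩ := (mem_ker_proj x).mp hx
  rw [Subgroup.mem_center_iff]
  intro y
  ext <;> simp [mul_def, ha, hb, add_comm]

theorem commutator_generators (k : ℕ) :
    ⁅(⟨(k : ZMod m), 0, 0⟩ : Heis m n h), (⟨0, 1, 0⟩ : Heis m n h)⁆ = ⟨0, 0, (k : ZMod n)⟩ := by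
  rw [commutatorElement_def]
  ext <;> simp only [mul_def, inv_def] <;> simp

theorem mem_commutator (k : ℕ) : (⟨0, 0, (k : ZMod n)⟩ : Heis m n h) ∈ commutator (Heis m n h) := by
  rw [← commutator_generators (m := m) (h := h) k, commutator_def]
  exact Subgroup.commutator_mem_commutator (mem_top _) (mem_top _)

end Heis

/-- The kernel of a central extension of a two-generated abelian group meets the derived subgroup
in a group of order at most the order of either generator. -/
theorem card_inf_commutator_le_of_two {Y : Type*} [Group Y] {Q : Type*} [CommGroup Q]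
    (τ : Y →* Q) (hc : τ.ker ≤ center Y) {n : ℕ} (hn : 0 < n) (x y : Y) (hy : τ y ^ n = 1)
    (hgen : Subgroup.closure ({τ x, τ y} : Set Q) = ⊤) :
    Nat.card ↥(τ.ker ⊓ commutator Y) ≤ n := by
  let z := ⁅x, y⁆
  have hz : z ∈ τ.ker := by
    rw [MonoidHom.mem_ker, map_commutatorElement, commutatorElement_eq_one_iff_mul_comm]
    exact mul_comm _ _
  have hzn : z ^ n = 1 := by
    have h1 : x * y * x⁻¹ = z * y := by simp [z, commutatorElement_def]
    have h2 : (x * y * x⁻¹) ^ n = x * y ^ n * x⁻¹ := by
      rw [← MulAut.conj_apply, ← map_pow, MulAut.conj_apply]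
    have h3 : x * y ^ n = y ^ n * x :=
      Subgroup.mem_center_iff.mp (hc (by rw [MonoidHom.mem_ker, map_pow, hy])) x
    have h4 : Commute z y := (show Commute y z from Subgroup.mem_center_iff.mp (hc hz) y).symm
    rw [h1, h4.mul_pow, h3, mul_inv_cancel_right] at h2
    exact mul_eq_right.mp h2
  let N : Subgroup Y := Subgroup.zpowers z
  haveI hN : N.Normal := ⟨fun a ha g => by
    rwa [Subgroup.mem_center_iff.mp ((Subgroup.zpowers_le.mpr (hc hz)) ha) g, mul_inv_cancel_right]⟩
  let L : Subgroup Y := Subgroup.closure {x, y}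
  have hsupp : ∀ w : Y, ∃ l ∈ L, ∃ a ∈ τ.ker, w = l * a := by
    intro w
    have : τ w ∈ L.map τ := by
      rw [MonoidHom.map_closure, Set.image_pair, hgen]; exact mem_top _
    obtain ⟨l, hl, hlw⟩ := this
    exact ⟨l, hl, l⁻¹ * w, by simp [MonoidHom.mem_ker, hlw], by group⟩
  have hcomm : commutator Y ≤ N := by
    rw [Cfsg.Agent.Lib.Schur.commutator_eq_of_central_supplement L τ.ker hc hsupp,
      Subgroup.commutator_le]
    let q := QuotientGroup.mk' N
    have hxy : q x * q y = q y * q x := by
      rw [← commutatorElement_eq_one_iff_mul_comm, ← map_commutatorElement]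
      exact (QuotientGroup.eq_one_iff _).mpr (Subgroup.mem_zpowers z)
    have hL : ∀ u ∈ L, q u * q x = q x * q u ∧ q u * q y = q y * q u := by
      intro u hu
      have h1 : u ∈ (Subgroup.centralizer ({q x, q y} : Set (Y ⧸ N))).comap q := by
        refine (Subgroup.closure_le _).mpr ?_ hu
        rintro w (rfl | rfl) <;>
          simp only [SetLike.mem_coe, Subgroup.mem_comap, Subgroup.mem_centralizer_iff] <;>
          rintro v (rfl | rfl)
        · rfl
        · exact hxy.symm
        · exact hxy
        · rfl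
      rw [Subgroup.mem_comap, Subgroup.mem_centralizer_iff] at h1
      exact ⟨(h1 _ (Or.inl rfl)).symm, (h1 _ (Or.inr rfl)).symm⟩
    intro u hu v hv
    rw [← QuotientGroup.eq_one_iff, ← QuotientGroup.mk'_apply, map_commutatorElement,
      commutatorElement_eq_one_iff_mul_comm]
    have h1 : v ∈ (Subgroup.centralizer ({q u} : Set (Y ⧸ N))).comap q := by
      refine (Subgroup.closure_le _).mpr ?_ hv
      rintro w (rfl | rfl) <;>
        simp only [SetLike.mem_coe, Subgroup.mem_comap, Subgroup.mem_centralizer_iff] <;>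
        rintro r rfl
      · exact (hL u hu).1
      · exact (hL u hu).2
    rw [Subgroup.mem_comap, Subgroup.mem_centralizer_iff] at h1
    exact h1 _ rfl
  haveI : Finite N := Nat.finite_of_card_ne_zero (by
    rw [Nat.card_zpowers]
    exact ne_of_gt (orderOf_pos_iff.mpr (isOfFinOrder_iff_pow_eq_one.mpr ⟨n, hn, hzn⟩)))
  refine le_trans (Nat.card_le_card_of_injective (Subgroup.inclusion (inf_le_right.trans hcomm))
    (Subgroup.inclusion_injective _)) ?_
  rw [Nat.card_zpowers]
  exact Nat.le_of_dvd hn (orderOf_dvd_of_pow_eq_one hzn)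

end Cfsg.Agent.Lib.SchurExtra
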