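import Mathlib
import Cfsg.Agent.Lib.Schur.Cover

/-!
Extending homomorphisms into the scalar matrices, pullbacks of projective representations and
monomial representations with prescribed central character.
-/

set_option autoImplicit false

universe u v

namespace Cfsg.Agent.Lib.SchurExtra

open Subgroup
open scoped commutatorElement

theorem exists_zpow_eq_center_GL (n : ℕ) (z : ↥(center (GL (Fin n) ℂ))) {k : ℤ} (hk : k ≠ 0) :
    ∃ w : ↥(center (GL (Fin n) ℂ)), w ^ k = z := by
  have hz := z.2
  simp only [Matrix.GeneralLinearGroup.center_eq_range_scalar, MonoidHom.mem_range] at hz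
  obtain ⟨c, hc⟩ := hz
  obtain ⟨d, hd⟩ : ∃ d : ℂˣ, d ^ k = c := by
    obtain ⟨d, hd⟩ := IsAlgClosed.exists_pow_nat_eq (c : ℂ) (n := k.natAbs) (by omega)
    have hd0 : d ≠ 0 := fun h => c.ne_zero (by rw [← hd, h, zero_pow (by omega)])
    rcases Int.natAbs_eq k with h | h
    · exact ⟨Units.mk0 d hd0, Units.ext (by rw [h, zpow_natCast, Units.val_pow_eq_pow_val, Units.val_mk0, hd])⟩
    · refine ⟨(Units.mk0 d hd0)⁻¹, ?_⟩
      rw [h, zpow_neg, ← inv_zpow, inv_inv]
      exact Units.ext (by rw [zpow_natCast, Units.val_pow_eq_pow_val, Units.val_mk0, hd])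
  refine ⟨⟨Matrix.GeneralLinearGroup.scalar (Fin n) d, ?_⟩, Subtype.ext ?_⟩
  · rw [Matrix.GeneralLinearGroup.center_eq_range_scalar]
    exact ⟨d, rfl⟩
  · rw [SubgroupClass.coe_zpow, ← map_zpow, hd, hc]

/-- Homomorphisms into the centre of `GL n ℂ` extend from subgroups missing the derived
subgroup. -/
theorem exists_extension_center_GL {G : Type u} [Group G] (K : Subgroup G)
    (hK : K ⊓ commutator G = ⊥) (n : ℕ) (φ : K →* ↥(center (GL (Fin n) ℂ))) :
    ∃ χ : G →* ↥(center (GL (Fin n) ℂ)), ∀ k : K, χ k = φ k := by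
  letI : CommGroup ↥(center (GL (Fin n) ℂ)) :=
    { (inferInstance : Group ↥(center (GL (Fin n) ℂ))) with
      mul_comm := fun a b => Subtype.ext (Subgroup.mem_center_iff.mp b.2 a) }
  letI : DivisibleBy (Additive ↥(center (GL (Fin n) ℂ))) ℤ :=
    divisibleByOfSMulRightSurj _ _ fun {k} hk a => by
      obtain ⟨w, hw⟩ := exists_zpow_eq_center_GL n a.toMul hk
      exact ⟨Additive.ofMul w, congrArg Additive.ofMul hw⟩
  let i : K →* Abelianization G := Abelianization.of.comp K.subtype
  have hi : Function.Injective i := by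
    refine (injective_iff_map_eq_one i).mpr fun k hk => Subtype.ext ?_
    have h1 : (k : G) ∈ K ⊓ commutator G := by
      refine ⟨k.2, ?_⟩
      rw [← Abelianization.ker_of]
      exact hk
    rw [hK] at h1
    exact mem_bot.mp h1
  let i' : i.range →* Abelianization G := i.range.subtype
  let φ' : i.range →* ↥(center (GL (Fin n) ℂ)) :=
    φ.comp (MonoidHom.ofInjective hi).symm.toMonoidHom
  obtain ⟨h, hh⟩ := (Module.Baer.of_divisible (Additive ↥(center (GL (Fin n) ℂ)))).extension_property_addMonoidHom
    (MonoidHom.toAdditive i') (Subtype.val_injective) (MonoidHom.toAdditive φ')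
  refine ⟨(MonoidHom.toAdditive.symm h).comp Abelianization.of, fun k => ?_⟩
  have h1 := DFunLike.congr_fun hh (Additive.ofMul (MonoidHom.ofInjective hi k))
  have h2 : φ' (MonoidHom.ofInjective hi k) = φ k := by simp [φ']
  rw [← h2]
  exact congrArg Additive.toMul h1

/-- Homomorphisms into a centre kill the derived subgroup. -/
theorem commutator_le_ker_center {X : Type*} [Group X] {H : Type*} [Group H]
    (c : X →* ↥(center H)) : commutator X ≤ c.ker := by
  rw [commutator_def, Subgroup.commutator_le]
  intro a _ b _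
  rw [MonoidHom.mem_ker, map_commutatorElement, commutatorElement_eq_one_iff_mul_comm]
  exact Subtype.ext (Subgroup.mem_center_iff.mp (c b).2 (c a))

/-- The image of the derived subgroup under a surjection. -/
theorem map_commutator_of_surjective {X : Type*} [Group X] {H : Type*} [Group H] (p : X →* H)
    (hp : Function.Surjective p) : (commutator X).map p = commutator H := by
  rw [commutator_def, commutator_def, Subgroup.map_commutator, Subgroup.map_top_of_surjective p hp]

variable {Δ : Type u} [Group Δ] {Q : Type v} [Group Q]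

/-- The cocycle of a section of a central extension. -/
def secCocycle (τ : Δ →* Q) (s : Q → Δ) (hs : ∀ q, τ (s q) = q) (d : Δ) (q : Q) : τ.ker :=
  ⟨(s (τ d * q))⁻¹ * (d * s q), by simp [MonoidHom.mem_ker, hs]⟩

theorem secCocycle_mul (τ : Δ →* Q) (s : Q → Δ) (hs : ∀ q, τ (s q) = q)
    (d e : Δ) (q : Q) :
    secCocycle τ s hs (d * e) q = secCocycle τ s hs d (τ e * q) * secCocycle τ s hs e q := by
  apply Subtype.ext
  simp only [secCocycle, Subgroup.coe_mul, map_mul, mul_assoc]
  group

theorem secCocycle_of_mem (τ : Δ →* Q) (hc : τ.ker ≤ center Δ) (s : Q → Δ)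
    (hs : ∀ q, τ (s q) = q) (a : τ.ker) (q : Q) : secCocycle τ s hs a q = a := by
  apply Subtype.ext
  have h := Subgroup.mem_center_iff.mp (hc a.2) (s q)
  have h1 : τ (a : Δ) = 1 := a.2
  simp [secCocycle, h1, ← h]

/-- The monomial representation induced from a character of a central kernel. -/
theorem exists_monomialRep [Finite Q] (τ : Δ →* Q) (hτ : Function.Surjective τ)
    (hc : τ.ker ≤ center Δ) (l : τ.ker →* ℂˣ) :
    ∃ ρ : Δ →* GL (Fin (Nat.card Q)) ℂ,
      ∀ a : τ.ker, ρ a = Matrix.GeneralLinearGroup.scalar (Fin (Nat.card Q)) (l a) := by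
  classical
  choose s hs using hτ
  let e : Q ≃ Fin (Nat.card Q) := Finite.equivFin Q
  let M : Δ →* Matrix (Fin (Nat.card Q)) (Fin (Nat.card Q)) ℂ :=
    { toFun := fun d => Matrix.of fun i j =>
        if i = e (τ d * e.symm j) then (l (secCocycle τ s hs d (e.symm j)) : ℂ) else 0
      map_one' := by
        ext i j
        simp only [Matrix.of_apply, map_one, one_mul, Equiv.apply_symm_apply, Matrix.one_apply]
        split
        · have := secCocycle_of_mem τ hc s hs 1 (e.symm j)
          rw [Subgroup.coe_one] at this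
          rw [this, map_one, Units.val_one]
        · rfl
      map_mul' := fun d d' => by
        ext i j
        simp only [Matrix.of_apply, Matrix.mul_apply, map_mul]
        rw [Finset.sum_eq_single (e (τ d' * e.symm j))]
        · simp only [Equiv.symm_apply_apply, if_true, mul_assoc]
          split
          · rw [secCocycle_mul τ s hs, map_mul, Units.val_mul]
          · simp
        · intro b _ hb
          rw [if_neg hb, mul_zero]
        · simp }
  refine ⟨M.toHomUnits, fun a => Units.ext ?_⟩
  ext i j
  have h1 : τ (a : Δ) = 1 := a.2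
  simp only [MonoidHom.coe_toHomUnits, M, MonoidHom.coe_mk, OneHom.coe_mk, Matrix.of_apply,
    h1, one_mul, Equiv.apply_symm_apply, secCocycle_of_mem τ hc s hs]
  simp [Matrix.GeneralLinearGroup.scalar, Matrix.scalar_apply, Matrix.diagonal_apply]

theorem scalar_mem_center_GL (n : ℕ) (c : ℂˣ) :
    Matrix.GeneralLinearGroup.scalar (Fin n) c ∈ center (GL (Fin n) ℂ) := by
  rw [Matrix.GeneralLinearGroup.center_eq_range_scalar]
  exact ⟨c, rfl⟩

end Cfsg.Agent.Lib.SchurExtra
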