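import Mathlib
import Cfsg.Agent.Lib.Schur.Cover
import Cfsg.Agent.Lib.TransferOrbit.Basic

/-!
Restriction (transfer) and corestriction between the multiplier of a finite group and that of a
subgroup, read off a free presentation.
-/

set_option autoImplicit false

universe u

namespace Cfsg.Agent.Lib.SchurExtra

open Subgroup Cfsg.Agent.Lib.Schur
open scoped commutatorElement

variable {G : Type u} [Group G] (U : Subgroup G)

/-- The preimage of `U` in the free group on `G`. -/
abbrev freeOver : Subgroup (FreeGroup G) := U.comap (canon G)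

/-- The projection of the preimage onto `U`. -/
abbrev freeOverProj : ↥(freeOver U) →* ↥U :=
  ((canon G).comp (freeOver U).subtype).codRestrict U fun v => v.2

/-- `[V, R]` for the preimage `V` of `U`. -/
abbrev relKer : Subgroup ↥(freeOver U) := ⁅(⊤ : Subgroup ↥(freeOver U)), (freeOverProj U).ker⁆

/-- The central extension `V / [V, R]` of `U`. -/
abbrev relCov : Type u := ↥(freeOver U) ⧸ relKer U

/-- Its projection. -/
def relProj : relCov U →* ↥U :=
  QuotientGroup.lift _ (freeOverProj U) (Subgroup.commutator_le.mpr fun x _ y hy => by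
    rw [MonoidHom.mem_ker, map_commutatorElement, MonoidHom.mem_ker.mp hy, commutatorElement_one_right])

theorem relProj_surjective : Function.Surjective (relProj U) := fun q => by
  obtain ⟨x, hx⟩ := canon_surjective G q.1
  exact ⟨QuotientGroup.mk' _ ⟨x, by rw [Subgroup.mem_comap, hx]; exact q.2⟩, Subtype.ext hx⟩

theorem relProj_ker_le_center : (relProj U).ker ≤ center (relCov U) := by
  intro r hr
  obtain ⟨r, rfl⟩ := QuotientGroup.mk'_surjective _ r
  rw [Subgroup.mem_center_iff]
  intro g
  obtain ⟨g, rfl⟩ := QuotientGroup.mk'_surjective _ g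
  rw [← commutatorElement_eq_one_iff_mul_comm, ← map_commutatorElement]
  exact (QuotientGroup.eq_one_iff _).mpr
    (Subgroup.commutator_mem_commutator (Subgroup.mem_top g) hr)

/-- The multiplier of `U`, read off the subgroup `V` of the free group on `G`. -/
abbrev relMult : Subgroup (relCov U) := (relProj U).ker ⊓ commutator (relCov U)

theorem nonempty_mulEquiv_relMult [Finite G] : Nonempty (mult (canon ↥U) ≃* relMult U) := by
  classical
  obtain ⟨f, hf⟩ := exists_covLift (canon ↥U) (relProj U) (relProj_surjective U)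
    (relProj_ker_le_center U)
  have hmap := map_mult (canon_surjective ↥U) (relProj U) (relProj_ker_le_center U) f hf
  -- a map back, from freeness of the subgroup
  choose s hs using fun i : IsFreeGroup.Generators ↥(freeOver U) =>
    covProj_surjective (canon_surjective ↥U) (freeOverProj U (IsFreeGroup.of i))
  let g₀ : ↥(freeOver U) →* cov (canon ↥U) := IsFreeGroup.lift s
  have hg₀ : (covProj (canon ↥U)).comp g₀ = freeOverProj U :=
    IsFreeGroup.ext_hom fun i => by simp [g₀, hs]
  have hker : relKer U ≤ g₀.ker := Subgroup.commutator_le.mpr fun x _ y hy => by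
    rw [MonoidHom.mem_ker, map_commutatorElement, commutatorElement_eq_one_iff_mul_comm]
    refine Subgroup.mem_center_iff.mp (covProj_ker_le_center (canon ↥U) ?_) (g₀ x)
    rw [MonoidHom.mem_ker, ← MonoidHom.comp_apply, hg₀]
    exact hy
  let g : relCov U →* cov (canon ↥U) := QuotientGroup.lift _ g₀ hker
  have hg : ∀ c, covProj (canon ↥U) (g c) = relProj U c := fun c => by
    obtain ⟨x, rfl⟩ := QuotientGroup.mk'_surjective _ c
    exact DFunLike.congr_fun hg₀ x
  have hcen : ∀ c, c⁻¹ * g (f c) ∈ center (cov (canon ↥U)) := fun c => by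
    refine covProj_ker_le_center _ ?_
    rw [MonoidHom.mem_ker, map_mul, map_inv, hg, ← MonoidHom.comp_apply (relProj U) f, hf,
      inv_mul_cancel]
  have hid : commutator (cov (canon ↥U)) ≤ (g.comp f).eqLocus (MonoidHom.id _) := by
    rw [_root_.commutator_def, Subgroup.commutator_le]
    intro x _ y _
    show g (f ⁅x, y⁆) = ⁅x, y⁆
    rw [map_commutatorElement, map_commutatorElement]
    have := commutatorElement_mul_central x y (hcen x) (hcen y)
    rwa [mul_inv_cancel_left, mul_inv_cancel_left] at this
  have hinj : Function.Injective (f.subgroupMap (mult (canon ↥U))) := by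
    intro a b hab
    apply Subtype.ext
    have h1 : f a.1 = f b.1 := congrArg Subtype.val hab
    have h2 : g (f a.1) = a.1 := hid a.2.2
    have h3 : g (f b.1) = b.1 := hid b.2.2
    rw [← h2, ← h3, h1]
  exact ⟨(MulEquiv.ofBijective _ ⟨hinj, f.subgroupMap_surjective _⟩).trans
    (MulEquiv.subgroupCongr hmap)⟩

/-- Conjugates of kernel elements, seen in the extension of `U`. -/
def conjRel (t : FreeGroup G) : ↥(canon G).ker →* ↥(relProj U).ker where
  toFun r := ⟨QuotientGroup.mk' (relKer U) ⟨t⁻¹ * r * t, by
      rw [Subgroup.mem_comap, map_mul, map_mul, MonoidHom.mem_ker.mp r.2, map_inv, mul_one,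
        inv_mul_cancel]
      exact one_mem U⟩, by
    apply Subtype.ext
    show canon G (t⁻¹ * r * t) = 1
    rw [map_mul, map_mul, MonoidHom.mem_ker.mp r.2, map_inv, mul_one, inv_mul_cancel]⟩
  map_one' := by
    apply Subtype.ext
    exact (congrArg (QuotientGroup.mk' (relKer U)) (Subtype.ext (by simp))).trans (map_one _)
  map_mul' a b := by
    apply Subtype.ext
    refine (congrArg (QuotientGroup.mk' (relKer U)) (Subtype.ext ?_)).trans (map_mul _ _ _)
    simp only [Subgroup.coe_mul]
    group

theorem conjRel_coset {t t' : FreeGroup G} (h : t⁻¹ * t' ∈ freeOver U) : conjRel U t' = conjRel U t := by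
  refine MonoidHom.ext fun r => Subtype.ext ?_
  let v : ↥(freeOver U) := ⟨t⁻¹ * t', h⟩
  have hc : (conjRel U t r).1 ∈ center (relCov U) := relProj_ker_le_center U (conjRel U t r).2
  have he : (conjRel U t' r).1 =
      (QuotientGroup.mk' (relKer U) v)⁻¹ * (conjRel U t r).1 * QuotientGroup.mk' (relKer U) v := by
    show QuotientGroup.mk' (relKer U) _ = _ * QuotientGroup.mk' (relKer U) _ * _
    rw [← map_inv, ← map_mul, ← map_mul]
    congr 1
    apply Subtype.ext
    simp only [Subgroup.coe_mul, Subgroup.coe_inv, v]
    group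
  rw [he, mul_assoc, ← Subgroup.mem_center_iff.mp hc, inv_mul_cancel_left]

theorem exists_transfer_maps [Finite G] :
    ∃ (tr : mult (canon G) →* mult (canon ↥U)) (cor : mult (canon ↥U) →* mult (canon G)),
      ∀ x, cor (tr x) = x ^ U.index := by
  classical
  letI : CommGroup ↥(relProj U).ker :=
    { (inferInstance : Group ↥(relProj U).ker) with
      mul_comm := fun a b => Subtype.ext
        (Subgroup.mem_center_iff.mp (relProj_ker_le_center U b.2) a.1) }
  have hindex : (freeOver U).index = U.index :=
    Subgroup.index_comap_of_surjective U (canon_surjective G)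
  haveI : (freeOver U).FiniteIndex := ⟨by rw [hindex]; exact Subgroup.index_ne_zero_of_finite⟩
  haveI : Fintype (FreeGroup G ⧸ freeOver U) := Fintype.ofFinite _
  let N : ↥(canon G).ker →* ↥(relProj U).ker :=
    ∏ q : FreeGroup G ⧸ freeOver U, conjRel U q.out
  have hN : ∀ r, N r = ∏ q : FreeGroup G ⧸ freeOver U, conjRel U q.out r := fun r =>
    MonoidHom.finsetProd_apply _ _ _
  have hconj : ∀ (x : FreeGroup G) (r r' : ↥(canon G).ker), (r' : FreeGroup G) = x * r * x⁻¹ →
      N r' = N r := by
    intro x r r' hr
    rw [hN, hN]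
    refine Fintype.prod_equiv (MulAction.toPerm x⁻¹) _ _ fun q => ?_
    rw [MulAction.toPerm_apply]
    have h1 : conjRel U q.out r' = conjRel U (x⁻¹ * q.out) r := by
      apply Subtype.ext
      show QuotientGroup.mk' (relKer U) _ = QuotientGroup.mk' (relKer U) _
      congr 1
      apply Subtype.ext
      simp only [hr]
      group
    rw [h1]
    refine DFunLike.congr_fun (conjRel_coset U ?_) r
    rw [← QuotientGroup.eq]
    conv_lhs => rw [QuotientGroup.out_eq']
    rw [← smul_eq_mul, ← MulAction.Quotient.smul_coe, QuotientGroup.out_eq']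
  -- descend modulo `[F, R]`
  let q₀ : ↥(canon G).ker →* ↥(covProj (canon G)).ker :=
    ((QuotientGroup.mk' (covKer (canon G))).comp (canon G).ker.subtype).codRestrict _ fun r => r.2
  have hq₀ : Function.Surjective q₀ := fun c => by
    obtain ⟨x, hx⟩ := QuotientGroup.mk'_surjective _ c.1
    refine ⟨⟨x, ?_⟩, Subtype.ext hx⟩
    have := c.2
    rw [MonoidHom.mem_ker, ← hx] at this
    exact this
  have hqN : q₀.ker ≤ N.ker := by
    have hle : covKer (canon G) ≤ N.ker.map (canon G).ker.subtype := by
      rw [Subgroup.commutator_le]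
      intro x _ r hr
      have hr' : x * r * x⁻¹ ∈ (canon G).ker := (inferInstance : (canon G).ker.Normal).conj_mem r hr x
      refine Subgroup.mem_map.mpr ⟨⟨x * r * x⁻¹, hr'⟩ * ⟨r, hr⟩⁻¹, ?_, ?_⟩
      · rw [MonoidHom.mem_ker, map_mul, map_inv, hconj x ⟨r, hr⟩ ⟨_, hr'⟩ rfl, mul_inv_cancel]
      · simp [commutatorElement_def]
    intro r hr
    have h1 : (r : FreeGroup G) ∈ covKer (canon G) :=
      (QuotientGroup.eq_one_iff _).mp (congrArg Subtype.val hr)
    obtain ⟨r', hr', he⟩ := Subgroup.mem_map.mp (hle h1)
    rwa [show r = r' from Subtype.ext he.symm]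
  let T : ↥(covProj (canon G)).ker →* ↥(relProj U).ker := q₀.liftOfSurjective hq₀ ⟨N, hqN⟩
  have hT : ∀ r, T (q₀ r) = N r := fun r => MonoidHom.liftOfRightInverse_comp_apply _ _ _ ⟨N, hqN⟩ r
  -- the image of the multiplier lies in the derived subgroup
  have hmem : ∀ c : mult (canon G), (T ⟨c.1, c.2.1⟩ : relCov U) ∈ commutator (relCov U) := by
    intro c
    obtain ⟨r, hr⟩ := hq₀ ⟨c.1, c.2.1⟩
    rw [← hr, hT]
    have hrF : (r : FreeGroup G) ∈ commutator (FreeGroup G) := by
      have h1 : QuotientGroup.mk' (covKer (canon G)) (r : FreeGroup G) ∈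
          commutator (cov (canon G)) := by
        have := c.2.2
        rwa [show (c : cov (canon G)) = QuotientGroup.mk' (covKer (canon G)) (r : FreeGroup G) from
          (congrArg Subtype.val hr).symm] at this
      rw [_root_.commutator_def, ← Subgroup.map_top_of_surjective _ (QuotientGroup.mk'_surjective _),
        ← Subgroup.map_commutator, ← Subgroup.mem_comap, Subgroup.comap_map_eq,
        QuotientGroup.ker_mk', sup_eq_left.mpr (Subgroup.commutator_mono le_top le_top)] at h1
      exact h1
    let a : ↥(freeOver U) →* Abelianization (relCov U) :=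
      Abelianization.of.comp (QuotientGroup.mk' (relKer U))
    have h0 : MonoidHom.transfer a (r : FreeGroup G) = 1 :=
      MonoidHom.mem_ker.mp (Abelianization.commutator_subset_ker _ hrF)
    have hfix : ∀ q : FreeGroup G ⧸ freeOver U, (r : FreeGroup G) • q = q := fun q => by
      conv_lhs => rw [← QuotientGroup.out_eq' q, MulAction.Quotient.smul_coe, smul_eq_mul]
      conv_rhs => rw [← QuotientGroup.out_eq' q]
      rw [QuotientGroup.eq, Subgroup.mem_comap, map_mul, map_inv, map_mul,
        MonoidHom.mem_ker.mp r.2, one_mul, inv_mul_cancel]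
      exact one_mem U
    rw [Cfsg.Agent.Lib.TransferOrbit.transfer_eq_prod_section a Quotient.out
      QuotientGroup.out_eq' (r : FreeGroup G)] at h0
    rw [← Abelianization.ker_of, MonoidHom.mem_ker]
    refine Eq.trans ?_ h0
    rw [hN]
    have h2 : Abelianization.of ((∏ q : FreeGroup G ⧸ freeOver U, conjRel U q.out r :
        ↥(relProj U).ker) : relCov U) =
        (Abelianization.of.comp (relProj U).ker.subtype)
          (∏ q : FreeGroup G ⧸ freeOver U, conjRel U q.out r) := rfl
    rw [h2, map_prod]
    refine Finset.prod_congr rfl fun q _ => ?_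
    refine congrArg Abelianization.of ?_
    refine congrArg (QuotientGroup.mk' (relKer U)) (Subtype.ext ?_)
    simp only [hfix, mul_assoc]
  let tr₁ : mult (canon G) →* relMult U :=
    { toFun := fun c => ⟨T ⟨c.1, c.2.1⟩, (T ⟨c.1, c.2.1⟩).2, hmem c⟩
      map_one' := by
        apply Subtype.ext
        show ((T 1 : ↥(relProj U).ker) : relCov U) = 1
        rw [map_one, Subgroup.coe_one]
      map_mul' := fun a b => by
        apply Subtype.ext
        show ((T (⟨a.1, a.2.1⟩ * ⟨b.1, b.2.1⟩) : ↥(relProj U).ker) : relCov U) = _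
        rw [map_mul, Subgroup.coe_mul]
        rfl }
  -- corestriction
  let J : relCov U →* cov (canon G) :=
    QuotientGroup.lift _ ((QuotientGroup.mk' (covKer (canon G))).comp (freeOver U).subtype)
      (Subgroup.commutator_le.mpr fun x _ y hy => by
        rw [MonoidHom.mem_ker, MonoidHom.comp_apply, map_commutatorElement]
        exact (QuotientGroup.eq_one_iff _).mpr (Subgroup.commutator_mem_commutator
          (Subgroup.mem_top _) (congrArg Subtype.val hy)))
  have hJ : ∀ y, covProj (canon G) (J y) = (relProj U y : G) := fun y => by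
    obtain ⟨x, rfl⟩ := QuotientGroup.mk'_surjective _ y
    rfl
  let cor₁ : relMult U →* mult (canon G) := (J.comp (relMult U).subtype).codRestrict _ fun y => by
    refine ⟨?_, ?_⟩
    · show covProj (canon G) (J y) = 1
      rw [hJ, MonoidHom.mem_ker.mp y.2.1, Subgroup.coe_one]
    · have h2 : (commutator (relCov U)).map J ≤ commutator (cov (canon G)) := by
        rw [_root_.commutator_def, _root_.commutator_def, Subgroup.map_commutator]
        exact Subgroup.commutator_mono le_top le_top
      exact h2 ⟨y.1, y.2.2, rfl⟩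
  obtain ⟨e⟩ := nonempty_mulEquiv_relMult U
  refine ⟨e.symm.toMonoidHom.comp tr₁, cor₁.comp e.toMonoidHom, fun c => Subtype.ext ?_⟩
  simp only [MonoidHom.comp_apply, MulEquiv.coe_toMonoidHom, MulEquiv.apply_symm_apply]
  obtain ⟨r, hr⟩ := hq₀ ⟨c.1, c.2.1⟩
  show J (T ⟨c.1, c.2.1⟩ : relCov U) = ((c ^ U.index : mult (canon G)) : cov (canon G))
  rw [← hr, hT, hN, Subgroup.coe_pow]
  have hcen : (c : cov (canon G)) ∈ center _ := covProj_ker_le_center _ c.2.1
  have hterm : ∀ q : FreeGroup G ⧸ freeOver U,
      J ((conjRel U q.out r : ↥(relProj U).ker) : relCov U) = (c : cov (canon G)) := by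
    intro q
    have hcr : (c : cov (canon G)) = QuotientGroup.mk' (covKer (canon G)) (r : FreeGroup G) :=
      (congrArg Subtype.val hr).symm
    show QuotientGroup.mk' (covKer (canon G)) (q.out⁻¹ * r * q.out) = _
    rw [map_mul, map_mul, map_inv, ← hcr, mul_assoc,
      ← Subgroup.mem_center_iff.mp hcen, inv_mul_cancel_left]
  let c' : ↥(covProj (canon G)).ker := ⟨c.1, c.2.1⟩
  letI : CommGroup ↥(covProj (canon G)).ker :=
    { (inferInstance : Group ↥(covProj (canon G)).ker) with
      mul_comm := fun a b => Subtype.ext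
        (Subgroup.mem_center_iff.mp (covProj_ker_le_center (canon G) b.2) a.1) }
  let J' : ↥(relProj U).ker →* ↥(covProj (canon G)).ker :=
    (J.comp (relProj U).ker.subtype).codRestrict _ fun y => by
      show covProj (canon G) (J y) = 1
      rw [hJ, MonoidHom.mem_ker.mp y.2, Subgroup.coe_one]
  have h3 : J' (∏ q : FreeGroup G ⧸ freeOver U, conjRel U q.out r) = c' ^ U.index := by
    have h4 : ∀ q : FreeGroup G ⧸ freeOver U, J' (conjRel U q.out r) = c' := fun q =>
      Subtype.ext (hterm q)
    rw [map_prod, Finset.prod_congr rfl (fun q _ => h4 q), Finset.prod_const, Finset.card_univ, ← Nat.card_eq_fintype_card,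
      ← Subgroup.index_eq_card, hindex]
  exact congrArg Subtype.val h3

end Cfsg.Agent.Lib.SchurExtra
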